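import Cfsg.Agent.H614.Spin.Shift

/-!
# Spin combinatorics: the functions `X s`

The Clifford relation (`X_swap`) and the vacuum relations (`X_append_neg`, `X_append_zero`) for all
multisets `s` of odd numbers.
-/

set_option autoImplicit false

namespace Cfsg.Agent.H614.Spin

open Finset

/-- the full Clifford relation for a function on lists -/
def Clif (g : List ℤ → ℤ) : Prop :=
  ∀ (M₁ : List ℤ) (x y : ℤ) (M₂ : List ℤ), g (M₁ ++ x :: y :: M₂) + g (M₁ ++ y :: x :: M₂) =
      if x + y = 0 then 2 * sgn x * g (M₁ ++ M₂) else 0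

theorem clif_V : Clif V := V_swap

theorem clif_dl {g : List ℤ → ℤ} (hg : Clif g) {r : ℤ} (hr : Odd r) : Clif (dl r g) := by
  intro L₁ a b L₂
  have e : ∀ x y : ℤ, dl r g (L₁ ++ x :: y :: L₂) = dl r (fun K => g (K ++ x :: y :: L₂)) L₁ +
      (g (L₁ ++ (x - r) :: y :: L₂) + (g (L₁ ++ x :: (y - r) :: L₂) +
        dl r (fun K => g (L₁ ++ x :: y :: K)) L₂)) := by
    intro x y
    rw [dl_append, dl_cons, dl_cons]
  obtain ⟨c, hc⟩ : ∃ c : ℤ, c = if a + b = 0 then 2 * sgn a else 0 := ⟨_, rfl⟩
  have hc' : ∀ w : ℤ, (if a + b = 0 then 2 * sgn a * w else 0) = c * w := by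
    intro w; rw [hc]; split_ifs <;> ring
  have h1 : dl r (fun K => g (K ++ a :: b :: L₂)) L₁ + dl r (fun K => g (K ++ b :: a :: L₂)) L₁ =
      c * dl r (fun K => g (K ++ L₂)) L₁ := by
    rw [← dl_add, ← dl_mul]
    congr 1
    funext K
    rw [hg, hc']
  have h2 : dl r (fun K => g (L₁ ++ a :: b :: K)) L₂ + dl r (fun K => g (L₁ ++ b :: a :: K)) L₂ =
      c * dl r (fun K => g (L₁ ++ K)) L₂ := by
    rw [← dl_add, ← dl_mul]
    congr 1
    funext K
    rw [hg, hc']
  have h3 := hg L₁ (a - r) b L₂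
  have h4 := hg L₁ a (b - r) L₂
  have h5 : (if a - r + b = 0 then 2 * sgn (a - r) * g (L₁ ++ L₂) else 0) +
      (if a + (b - r) = 0 then 2 * sgn a * g (L₁ ++ L₂) else 0) = 0 := by
    rw [sgn_sub, sgn_odd hr, show a - r + b = a + (b - r) by ring]
    split_ifs <;> ring
  have h6 : dl r (fun K => g (K ++ L₂)) L₁ + dl r (fun K => g (L₁ ++ K)) L₂ =
      dl r g (L₁ ++ L₂) := (dl_append _ _ _ _).symm
  rw [e, e, hc']
  linear_combination h1 + h2 + h3 + h4 + h5 + c * h6

theorem clif_X {s : Multiset ℕ} (hs : ∀ i ∈ s, Odd i) : Clif (X s) := by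
  induction s using Multiset.induction_on with
  | empty => exact clif_V
  | cons r s ih =>
    have h1 : X (r ::ₘ s) = dl r (X s) := funext fun L => X_cons r s L
    rw [h1]
    refine clif_dl (ih fun i hi => hs i (Multiset.mem_cons_of_mem hi)) ?_
    exact_mod_cast hs r (Multiset.mem_cons_self _ _)

theorem X_swap {s : Multiset ℕ} (hs : ∀ i ∈ s, Odd i) (L₁ : List ℤ) (a b : ℤ) (L₂ : List ℤ) :
    X s (L₁ ++ a :: b :: L₂) + X s (L₁ ++ b :: a :: L₂) =
      if a + b = 0 then 2 * (-1) ^ a.natAbs * X s (L₁ ++ L₂) else 0 := clif_X hs L₁ a b L₂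

theorem X_append_neg (s : Multiset ℕ) (L : List ℤ) {c : ℤ} (hc : c < 0) : X s (L ++ [c]) = 0 := by
  induction s using Multiset.induction_on generalizing L c with
  | empty => exact V_append_neg L hc
  | cons r s ih =>
    rw [X_cons, dl_append, dl_cons, dl_nil, ih L (c := c - r) (by omega)]
    have : dl (r : ℤ) (fun K => X s (K ++ [c])) L = dl (r : ℤ) (fun _ => 0) L := by
      congr 1; funext K; exact ih K hc
    rw [this, dl_zero]; rfl

theorem X_append_zero (s : Multiset ℕ) (hs : ∀ i ∈ s, 0 < i) (L : List ℤ) :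
    X s (L ++ [0]) = X s L := by
  induction s using Multiset.induction_on generalizing L with
  | empty => exact V_append_zero L
  | cons r s ih =>
    have hr := hs r (Multiset.mem_cons_self _ _)
    rw [X_cons, X_cons, dl_append, dl_cons, dl_nil, X_append_neg s L (c := 0 - r) (by omega)]
    have : dl (r : ℤ) (fun K => X s (K ++ [0])) L = dl (r : ℤ) (X s) L := by
      congr 1; funext K; exact ih (fun i hi => hs i (Multiset.mem_cons_of_mem hi)) K
    rw [this]; ring

theorem dl_of_sum {g : List ℤ → ℤ} {r c : ℤ} (hg : ∀ M : List ℤ, M.sum ≠ c → g M = 0)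
    {L : List ℤ} (h : L.sum ≠ c + r) : dl r g L = 0 := by
  induction L generalizing g c with
  | nil => rfl
  | cons b L ih =>
    rw [List.sum_cons] at h
    rw [dl_cons, hg _ (by rw [List.sum_cons]; omega),
      ih (g := fun M => g (b :: M)) (c := c - b) (fun M hM => hg _ (by rw [List.sum_cons]; omega))
        (by omega), add_zero]

theorem X_eq_zero_of_sum (s : Multiset ℕ) (L : List ℤ) (h : L.sum ≠ s.sum) : X s L = 0 := by
  induction s using Multiset.induction_on generalizing L with
  | empty => exact V_eq_zero_of_sum L (by simpa using h)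
  | cons r s ih =>
    rw [X_cons]
    refine dl_of_sum (c := s.sum) (fun M hM => ih M hM) ?_
    rw [Multiset.sum_cons, Nat.cast_add] at h
    omega

end Cfsg.Agent.H614.Spin
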