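import Cfsg.Agent.H614.AltBlk
import Cfsg.Agent.H795.Spin.CenterLe

/-!
# The final deduction: heights and the centre of the defect group
-/

set_option autoImplicit false
set_option linter.unusedSectionVars false

namespace Cfsg.Agent.H614.Spin

open Finset Cfsg Cfsg.Agent.H614

universe u

theorem concl_of_w {n p : ℕ} [hp : Fact p.Prime] (hp2 : p ≠ 2) {H : Type u} [Group H] [Finite H]
    (f : H →* Equiv.Perm (Fin n)) (hker : ¬ p ∣ Nat.card f.ker)
    {M : Ideal AlgInt} (hM : IsPModular p M) {B : Set (IrrCharacter H)} (hB : IsPBlock M B)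
    {D : Subgroup H} (hD : IsDefectGroup p M B D) {w : ℕ}
    (h1 : ∀ χ ∈ B, (charDegree (χ : H → ℂ)).factorization p + w ≤ (Nat.card H).factorization p)
    (h2 : ∀ y ∈ D, #(f y).support ≤ p * w) {χ : IrrCharacter H} (hχ : χ ∈ B) :
    blockHeight p B (χ : H → ℂ) ≤ ((Subgroup.center D).index).factorization p ∧
      (blockHeight p B (χ : H → ℂ) = ((Subgroup.center D).index).factorization p ↔
        IsMulCommutative D) := by
  classical
  let _ : Fintype H := Fintype.ofFinite H
  have hDp : IsPGroup p D := Blocks.Basic.isPGroup_of_isDefectGroup hD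
  have hd := S0908.result p M hM B hB D hD
  -- the image
  have hinj : Function.Injective (f.domRestrict D) := by
    rw [injective_iff_map_eq_one]
    intro y hy
    by_contra hne
    have h3 : orderOf (y : H) ∣ Nat.card f.ker := by
      have h4 := orderOf_dvd_natCard (⟨(y : H), hy⟩ : f.ker)
      rwa [← Subgroup.orderOf_coe] at h4
    obtain ⟨k, hk⟩ := (IsPGroup.iff_orderOf.1 hDp) y
    rw [← Subgroup.orderOf_coe] at hk
    rw [hk] at h3
    apply hker
    refine dvd_trans ?_ h3
    rcases Nat.eq_zero_or_pos k with rfl | hk0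
    · rw [pow_zero, Subgroup.orderOf_coe, orderOf_eq_one_iff] at hk
      exact absurd hk hne
    · exact dvd_pow_self p hk0.ne'
  let e : D ≃* (f.domRestrict D).range := MonoidHom.ofInjective hinj
  have hcen : Nat.card (Subgroup.center D) = Nat.card (Subgroup.center (f.domRestrict D).range) :=
    Nat.card_congr (Subgroup.centerCongr e).toEquiv
  obtain ⟨c, hc⟩ : ∃ c, Nat.card (Subgroup.center D) = p ^ c :=
    (IsPGroup.iff_card.1 (hDp.to_subgroup (Subgroup.center D)))
  have hDp' : IsPGroup p (f.domRestrict D).range := hDp.of_equiv e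
  obtain ⟨hcw, hcomm⟩ := Cfsg.Agent.H795.Spin.center_le hp2 hDp' (w := w) (by
    rintro _ ⟨y, rfl⟩
    exact h2 y y.2) (hcen ▸ hc)
  have hcomm' : c = w → IsMulCommutative D := fun h => by
    have h3 := hcomm h
    exact ⟨⟨fun a b => e.injective (by rw [map_mul, map_mul]; exact h3.is_comm.comm _ _)⟩⟩
  -- the index of the centre
  have hidx : (Subgroup.center D).index.factorization p + c = blockDefect p B := by
    have h3 := Subgroup.card_mul_index (Subgroup.center D)
    rw [hc, hd] at h3
    have h4 := congrArg (fun x : ℕ => x.factorization p) h3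
    beta_reduce at h4
    rw [Nat.factorization_mul (pow_ne_zero _ hp.out.ne_zero) Subgroup.index_ne_zero_of_finite,
      Finsupp.add_apply, hp.out.factorization_pow, hp.out.factorization_pow, Finsupp.single_eq_same,
      Finsupp.single_eq_same] at h4
    omega
  -- heights
  have h3 : ((fun χ : IrrCharacter H =>
      (charDegree (χ : H → ℂ)).factorization p) '' B).Nonempty := ⟨_, χ, hχ, rfl⟩
  obtain ⟨φ, hφ, hφ'⟩ := Nat.sInf_mem h3
  have h4 : (charDegree (φ : H → ℂ)).factorization p ≤ (Nat.card H).factorization p :=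
    factorization_charDegree_le φ.2
  have h6 : sInf ((fun χ : IrrCharacter H => (charDegree (χ : H → ℂ)).factorization p) '' B) =
    (charDegree (φ : H → ℂ)).factorization p := hφ'.symm
  have hht : blockHeight p B (χ : H → ℂ) + w ≤ blockDefect p B := by
    have h5 : sInf ((fun χ : IrrCharacter H => (charDegree (χ : H → ℂ)).factorization p) '' B) ≤
      (charDegree (χ : H → ℂ)).factorization p := Nat.sInf_le ⟨χ, hχ, rfl⟩
    have h7 := h1 χ hχ
    unfold blockDefect blockHeight
    rw [h6] at h5 ⊢
    omega
  refine ⟨by omega, fun h => hcomm' (by omega), fun h => ?_⟩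
  have h7 : Subgroup.center D = ⊤ := by
    rw [eq_top_iff]
    intro x _
    rw [Subgroup.mem_center_iff]
    intro y
    exact h.is_comm.comm y x
  rw [h7, Subgroup.index_top, Nat.factorization_one] at hidx ⊢
  rw [Finsupp.coe_zero, Pi.zero_apply] at hidx ⊢
  omega

end Cfsg.Agent.H614.Spin
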