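import Cfsg.Agent.H305.AltOdd
import Cfsg.Agent.H591.QuotDefect
import Cfsg.Agent.H649.Transport
import Cfsg.Agent.Blocks.Deflate
import Cfsg.Agent.SporadicRecognition.AltCover

/-!
# Blocks of the double covers of the alternating groups with the centre in the kernel, `p` odd

`cover_nonspin`.
-/

set_option autoImplicit false
set_option linter.unusedSectionVars false

namespace Cfsg.Agent.H614.Spin

open Finset Cfsg Cfsg.Agent.H614
open Cfsg.Agent.Blocks.Local Cfsg.Agent.Blocks.Basic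
open Cfsg.Agent.SporadicRecognition.AltCover

universe u

variable {H : Type u} [Group H]

/-- The index of `C_G(g)` in the preimage of `C_{G/N}(gN)` divides `|N|` if `N` is central. -/
theorem relIndex_dvd (N : Subgroup H) [N.Normal] (hN : N ≤ Subgroup.center H) (g : H) :
    (Subgroup.centralizer ({g} : Set H)).relIndex
        ((Subgroup.centralizer ({(QuotientGroup.mk g : H ⧸ N)} : Set (H ⧸ N))).comap
          (QuotientGroup.mk' N)) ∣ Nat.card N := by
  set K := (Subgroup.centralizer ({(QuotientGroup.mk g : H ⧸ N)} : Set (H ⧸ N))).comap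
          (QuotientGroup.mk' N) with hK
  have hmem : ∀ k ∈ K, k * g * k⁻¹ * g⁻¹ ∈ N := by
    intro k hk
    rw [hK, Subgroup.mem_comap, Subgroup.mem_centralizer_singleton_iff] at hk
    have h1 : (QuotientGroup.mk (k * g) : H ⧸ N) = QuotientGroup.mk (g * k) := hk
    rw [← QuotientGroup.eq_one_iff]
    rw [QuotientGroup.mk_mul, QuotientGroup.mk_mul, h1, ← QuotientGroup.mk_mul,
      ← QuotientGroup.mk_mul]
    have h2 : g * k * k⁻¹ * g⁻¹ = 1 := by group
    rw [h2]; rfl
  let φ : K →* N :=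
    { toFun := fun k => ⟨(k : H) * g * (k : H)⁻¹ * g⁻¹, hmem k k.2⟩
      map_one' := by ext; simp
      map_mul' := fun k l => by
        ext
        show (k : H) * (l : H) * g * ((k : H) * (l : H))⁻¹ * g⁻¹ =
          (k : H) * g * (k : H)⁻¹ * g⁻¹ * ((l : H) * g * (l : H)⁻¹ * g⁻¹)
        have h1 := Subgroup.mem_center_iff.1 (hN (hmem l l.2))
        have h2 : (k : H) * (l : H) * g * ((k : H) * (l : H))⁻¹ * g⁻¹ =
          (k : H) * ((l : H) * g * (l : H)⁻¹ * g⁻¹) * g * (k : H)⁻¹ * g⁻¹ := by group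
        rw [h2, h1 (k : H), h1 ((k : H) * g * (k : H)⁻¹ * g⁻¹)]
        simp only [mul_assoc] }
  have hker : φ.ker = (Subgroup.centralizer ({g} : Set H)).subgroupOf K := by
    ext k
    rw [MonoidHom.mem_ker, Subgroup.mem_subgroupOf, Subgroup.mem_centralizer_singleton_iff]
    constructor
    · intro h
      have h1 : (k : H) * g * (k : H)⁻¹ * g⁻¹ = 1 := congrArg Subtype.val h
      rwa [mul_inv_eq_one, mul_inv_eq_iff_eq_mul] at h1
    · intro h
      apply Subtype.ext
      show (k : H) * g * (k : H)⁻¹ * g⁻¹ = 1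
      rw [mul_inv_eq_one, mul_inv_eq_iff_eq_mul]
      exact h
  rw [Subgroup.relIndex, ← hker, Subgroup.index_ker]
  exact Subgroup.card_subgroup_dvd_card _

theorem cover_nonspin {n p : ℕ} [hp : Fact p.Prime] (hp2 : p ≠ 2) {H : Type u} [Group H] [Finite H]
    {π : H →* alternatingGroup (Fin n)} {z : H} (h : IsCover π z)
    {M : Ideal AlgInt} (hM : IsPModular p M) {B : Set (IrrCharacter H)} (hB : IsPBlock M B)
    {D : Subgroup H} (hD : IsDefectGroup p M B D) {ψ : IrrCharacter H} (hψ : ψ ∈ B)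
    (hz : (ψ : H → ℂ) z = (ψ : H → ℂ) 1) :
    ∃ w : ℕ, (∀ χ ∈ B, (charDegree (χ : H → ℂ)).factorization p + w ≤
        (Nat.card H).factorization p) ∧
      ∀ y ∈ D, #((π y : alternatingGroup (Fin n)) : Equiv.Perm (Fin n)).support ≤ p * w := by
  classical
  have hMp : M.IsPrime := hM.2.1.isPrime
  let _ : Fintype H := Fintype.ofFinite H
  let _ : Fintype π.ker := Fintype.ofFinite _
  have hkset : (π.ker : Set H) = {1, z} := by
    ext x; exact h.ker x
  have hkcard : Nat.card π.ker = 2 := by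
    have h2 : Nat.card π.ker = (π.ker : Set H).ncard := rfl
    rw [h2, hkset, Set.ncard_pair h.z_ne.symm]
  have hkc : π.ker ≤ Subgroup.center H := by
    intro x hx
    rcases (h.ker x).1 hx with rfl | rfl
    · exact one_mem _
    · exact h.mem_center
  have hp2' : ¬ p ∣ 2 := fun h1 => hp2 ((Nat.prime_dvd_prime_iff_eq hp.out Nat.prime_two).1 h1)
  have hsum : ∀ χ : H → ℂ, ∑ x : π.ker, χ x = χ 1 + χ z := by
    intro χ
    have h1 : ∑ x : π.ker, χ x = ∑ x ∈ ({1, z} : Finset H), χ x := by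
      refine Finset.sum_bij (fun x _ => (x : H)) ?_ ?_ ?_ ?_
      · intro x _
        rcases (h.ker x).1 x.2 with h2 | h2 <;> simp [h2]
      · intro x _ y _ hxy; exact Subtype.ext hxy
      · intro y hy
        refine ⟨⟨y, (h.ker y).2 (by simpa using hy)⟩, Finset.mem_univ _, rfl⟩
      · intro x _; rfl
    rw [h1, Finset.sum_pair h.z_ne.symm]
  have hcz : ∀ χ : H → ℂ, centralChar χ z = χ z / χ 1 := by
    intro χ
    have h1 : Subgroup.centralizer ({z} : Set H) = ⊤ := by
      rw [eq_top_iff]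
      intro x _
      rw [Subgroup.mem_centralizer_singleton_iff]
      exact h.z_comm x
    rw [centralChar_def, h1, Subgroup.index_top, Nat.cast_one, one_mul]
  -- deflation
  have hdef : ∀ χ : IrrCharacter H, χ ∈ B → ∃ χ' : IrrCharacter (H ⧸ π.ker),
      (χ : H → ℂ) = (χ' : H ⧸ π.ker → ℂ) ∘ QuotientGroup.mk := by
    intro χ hχ
    refine Blocks.Deflate.exists_deflation π.ker _ χ.2 ?_
    rw [hsum]
    intro h0
    have h1 := isPBlock_sameBlock hB hψ hχ z
    rw [hcz, hcz, hz, div_self (irr_one_ne_zero ψ.2),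
      show (χ : H → ℂ) z = -(χ : H → ℂ) 1 by linear_combination h0, neg_div,
      div_self (irr_one_ne_zero χ.2), sub_neg_eq_add] at h1
    have h2 := (memLocalIdeal_natCast_iff hM 2).1 (by push_cast; convert h1 using 1; norm_num)
    exact hp2' h2
  obtain ⟨ψ', hψ'⟩ := hdef ψ hψ
  have hBbar : IsPBlock M (blockOf M (ψ' : H ⧸ π.ker → ℂ)) := ⟨ψ', rfl⟩
  have hmem : ∀ χ : IrrCharacter H, χ ∈ B → ∀ χ' : IrrCharacter (H ⧸ π.ker),
      (χ : H → ℂ) = (χ' : H ⧸ π.ker → ℂ) ∘ QuotientGroup.mk → χ' ∈ blockOf M (ψ' : H ⧸ π.ker → ℂ) := by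
    intro χ hχ χ' hχ' ybar
    obtain ⟨y, rfl⟩ := QuotientGroup.mk_surjective ybar
    have h1 := isPBlock_sameBlock hB hψ hχ y
    rw [hψ', hχ', Cfsg.Agent.H591.QuotDefect.centralChar_inflate,
      Cfsg.Agent.H591.QuotDefect.centralChar_inflate, ← mul_sub] at h1
    have hr := relIndex_dvd π.ker hkc y
    rw [hkcard] at hr
    rcases memLocalIdeal_or_of_mul (memLocalRing_natCast _)
      (memLocalRing_sub (Cfsg.Agent.Blocks.Osima.memLocalRing_centralChar hM ψ'.2 _)
        (Cfsg.Agent.Blocks.Osima.memLocalRing_centralChar hM χ'.2 _)) h1 with h2 | h2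
    · exact absurd (((memLocalIdeal_natCast_iff hM _).1 h2).trans hr) hp2'
    · exact h2
  obtain ⟨Dbar, hDbar⟩ := exists_defectGroup hM hBbar
  obtain ⟨x, hx⟩ := Cfsg.Agent.H591.QuotDefect.exists_conj_le_map p hM π.ker hBbar
    (mem_blockOf_self ψ') hψ' hψ hD hDbar
  -- orders
  have hcardH : Nat.card H = 2 * Nat.card (H ⧸ π.ker) := by
    rw [← hkcard, mul_comm]
    exact Subgroup.card_eq_card_quotient_mul_card_subgroup π.ker
  have h2p : (2 : ℕ).factorization p = 0 := Nat.factorization_eq_zero_of_not_dvd hp2'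
  have hvH : (Nat.card H).factorization p = (Nat.card (H ⧸ π.ker)).factorization p := by
    rw [hcardH, Nat.factorization_mul two_ne_zero Nat.card_pos.ne', Finsupp.add_apply, h2p, zero_add]
  have hdeg : ∀ χ : IrrCharacter H, ∀ χ' : IrrCharacter (H ⧸ π.ker),
      (χ : H → ℂ) = (χ' : H ⧸ π.ker → ℂ) ∘ QuotientGroup.mk →
      charDegree (χ : H → ℂ) = charDegree (χ' : H ⧸ π.ker → ℂ) := by
    intro χ χ' hχ'
    rw [charDegree_def, charDegree_def, hχ']
    rfl
  have hdle : blockDefect p B ≤ blockDefect p (blockOf M (ψ' : H ⧸ π.ker → ℂ)) := by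
    have h3 : ((fun χ : IrrCharacter H =>
        (charDegree (χ : H → ℂ)).factorization p) '' B).Nonempty := ⟨_, ψ, hψ, rfl⟩
    obtain ⟨φ, hφ, hφ'⟩ := Nat.sInf_mem h3
    obtain ⟨φ₀, hφ₀⟩ := hdef φ hφ
    have h4 : sInf ((fun χ : IrrCharacter (H ⧸ π.ker) =>
        (charDegree (χ : H ⧸ π.ker → ℂ)).factorization p) '' blockOf M (ψ' : H ⧸ π.ker → ℂ)) ≤
        (charDegree (φ₀ : H ⧸ π.ker → ℂ)).factorization p :=
      Nat.sInf_le ⟨φ₀, hmem φ hφ φ₀ hφ₀, rfl⟩
    have h5 : (charDegree (φ : H → ℂ)).factorization p =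
      sInf ((fun χ : IrrCharacter H => (charDegree (χ : H → ℂ)).factorization p) '' B) := hφ'
    rw [blockDefect_def, blockDefect_def, hvH, ← h5, hdeg φ φ₀ hφ₀]
    omega
  have hDeq : Dbar = (D.map (MulAut.conj x).toMonoidHom).map (QuotientGroup.mk' π.ker) := by
    apply Subgroup.eq_of_le_of_card_ge hx
    have h1 : Nat.card ((D.map (MulAut.conj x).toMonoidHom).map (QuotientGroup.mk' π.ker) :
        Subgroup (H ⧸ π.ker)) ≤ Nat.card D := by
      refine (Nat.le_of_dvd Nat.card_pos (Subgroup.card_map_dvd _ _)).trans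
        (Nat.le_of_dvd Nat.card_pos (Subgroup.card_map_dvd _ _))
    refine h1.trans ?_
    rw [S0908.result p M hM B hB D hD, S0908.result p M hM _ hBbar Dbar hDbar]
    exact Nat.pow_le_pow_right hp.out.pos hdle
  -- transport to the alternating group
  let e : H ⧸ π.ker ≃* alternatingGroup (Fin n) := QuotientGroup.quotientKerEquivOfSurjective π h.surj
  obtain ⟨w, hw1, hw2⟩ := alt_odd hp2 hM (H649.isPBlock_blkMap (e := e) hBbar)
    (H649.isDefectGroup_blkMap (e := e) hDbar)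
  refine ⟨w, fun χ hχ => ?_, fun y hy => ?_⟩
  · obtain ⟨χ', hχ'⟩ := hdef χ hχ
    have h1 := hw1 (H649.irrMap e χ') (H649.irrMap_mem_blkMap.2 (hmem χ hχ χ' hχ'))
    rw [H649.charDegree_irrMap, ← Nat.card_congr e.toEquiv] at h1
    rw [hdeg χ χ' hχ', hvH]
    exact h1
  · have h1 : (QuotientGroup.mk' π.ker (x * y * x⁻¹)) ∈ Dbar := by
      rw [hDeq]
      exact ⟨_, ⟨y, hy, rfl⟩, rfl⟩
    have h2 := hw2 (e (QuotientGroup.mk' π.ker (x * y * x⁻¹))) ⟨_, h1, rfl⟩
    have h3 : e (QuotientGroup.mk' π.ker (x * y * x⁻¹)) = π (x * y * x⁻¹) := rfl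
    rw [h3, map_mul, map_mul, map_inv, Subgroup.coe_mul, Subgroup.coe_mul, Subgroup.coe_inv,
      Equiv.Perm.card_support_conj] at h2
    exact h2

end Cfsg.Agent.H614.Spin
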