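import Cfsg.Agent.H886.Spin.Full
import Cfsg.Agent.H614.Spin.DefElt
import Cfsg.Agent.H614.Spin.Nonspin
import Cfsg.Agent.H614.Spin.Fin
import Cfsg.Agent.H112.Comm.Main
import Cfsg.Agent.H886.Spin.Label
import Cfsg.Agent.H886.Spin.WV
import Cfsg.Agent.H686.Spin.Data
import Cfsg.Agent.H837.AltTwo
import Cfsg.Agent.H852.Spin.Main
import Cfsg.Agent.H305.AltOdd
import Cfsg.Agent.H87.Spin.Ones
import Cfsg.Agent.H107.AltBlk.Exc
import Cfsg.Agent.S0955

/-!
# Heights in the blocks of the double covers of the alternating groups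

* `cover_spin` : blocks of faithful characters, `p` odd;
* `cover_concl`, `alt_concl` : the statement for the double covers and the alternating groups.
-/

set_option autoImplicit false
set_option linter.unusedSectionVars false

namespace Cfsg.Agent.H614.Spin

open Finset Cfsg Cfsg.Agent.Characters.Core
open Cfsg.Agent.H686.Spin
open Cfsg.Agent.H886.Full (exists_full)
open Cfsg.Agent.H112.Comm (comm_of_disjoint exists_odd_swap)
open Cfsg.Agent.H886.Spin (exists_label X_eq_zero_of_wt)
open Cfsg.Agent.SporadicRecognition.AltCover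

universe u

section General

variable {G : Type u} [Group G] [Finite G] {p : ℕ} [hp : Fact p.Prime] {M : Ideal AlgInt}

/-- The conclusion for commutative defect groups and height zero. -/
theorem concl_of_comm {B : Set (IrrCharacter G)} {D : Subgroup G} (hD : IsMulCommutative D)
    {χ : IrrCharacter G} (h : blockHeight p B (χ : G → ℂ) = 0) :
    blockHeight p B (χ : G → ℂ) ≤ ((Subgroup.center D).index).factorization p ∧
      (blockHeight p B (χ : G → ℂ) = ((Subgroup.center D).index).factorization p ↔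
        IsMulCommutative D) := by
  have h1 : Subgroup.center D = ⊤ := by
    rw [eq_top_iff]
    intro x _
    rw [Subgroup.mem_center_iff]
    intro y
    exact hD.is_comm.comm y x
  rw [h, h1, Subgroup.index_top, Nat.factorization_one]
  simp [hD]

/-- A `p`-group moving at most `p` points has order at most `p`. -/
theorem card_le_of_supp {n : ℕ} (f : G →* Equiv.Perm (Fin n)) (hker : ¬ p ∣ Nat.card f.ker)
    {D : Subgroup G} {d : ℕ} (hd : Nat.card D = p ^ d) {S : Finset (Fin n)} (hS : #S ≤ p)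
    (h : ∀ y ∈ D, (f y).support ⊆ S) : d ≤ 1 := by
  classical
  let F : D →* Equiv.Perm {i // i ∈ S} :=
    { toFun := fun y => (f y).subtypePerm (fun i => by
        by_cases hi : f (y : G) i = i
        · rw [hi]
        · have h1 : i ∈ S := h y y.2 (Equiv.Perm.mem_support.2 hi)
          have h2 : f (y : G) i ∈ S := h y y.2 (Equiv.Perm.apply_mem_support.2 (Equiv.Perm.mem_support.2 hi))
          exact ⟨fun _ => h1, fun _ => h2⟩)
      map_one' := by ext i; simp
      map_mul' := fun a b => by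
        ext i
        show ((f ((a * b : D) : G) (i : Fin n) : Fin n) : ℕ) = (f (a : G) (f (b : G) (i : Fin n)) : Fin n)
        rw [Subgroup.coe_mul, map_mul]; rfl }
  have hinj : Function.Injective F := by
    rw [injective_iff_map_eq_one]
    intro y hy
    have h1 : f (y : G) = 1 := by
      ext i
      by_cases hi : i ∈ S
      · have h2 := congrArg (fun σ : Equiv.Perm {i // i ∈ S} => ((σ ⟨i, hi⟩ : {i // i ∈ S}) : Fin n)) hy
        exact congrArg Fin.val h2
      · by_contra hne
        exact hi (h y y.2 (Equiv.Perm.mem_support.2 (fun h3 => hne (by rw [h3]; rfl))))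
    by_contra hne
    apply hker
    have h2 : orderOf (y : G) ∣ Nat.card f.ker := by
      have h3 := orderOf_dvd_natCard (⟨(y : G), h1⟩ : f.ker)
      rwa [← Subgroup.orderOf_coe] at h3
    have h4 : orderOf (y : G) ∣ p ^ d := by
      rw [Subgroup.orderOf_coe, ← hd]
      exact orderOf_dvd_natCard y
    obtain ⟨k, -, hk⟩ := (Nat.dvd_prime_pow hp.out).1 h4
    rw [hk] at h2
    refine dvd_trans ?_ h2
    rcases Nat.eq_zero_or_pos k with rfl | hk0
    · rw [pow_zero, orderOf_eq_one_iff] at hk
      exact absurd (Subtype.ext hk) hne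
    · exact dvd_pow_self p hk0.ne'
  have h1 : Nat.card D ∣ Nat.card (Equiv.Perm {i // i ∈ S}) := Subgroup.card_dvd_of_injective F hinj
  rw [hd, Nat.card_eq_fintype_card, Fintype.card_perm, Fintype.card_coe] at h1
  have h2 : p ^ d ∣ p.factorial := h1.trans (Nat.factorial_dvd_factorial hS)
  by_contra hcon
  have h3 : p ^ 2 ∣ p.factorial := (pow_dvd_pow p (by omega)).trans h2
  have h4 : p.factorial = p * (p - 1).factorial := (Nat.mul_factorial_pred hp.out.ne_zero).symm
  rw [h4, pow_two] at h3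
  have h5 := Nat.dvd_of_mul_dvd_mul_left hp.out.pos h3
  rw [hp.out.dvd_factorial] at h5
  have := hp.out.pos
  omega

end General

section Spin

variable {n p : ℕ} [hp : Fact p.Prime] {M : Ideal AlgInt}

/-- the radical property of the defect groups -/
theorem radical {G : Type u} [Group G] [Finite G] (hM : IsPModular p M)
    {B : Set (IrrCharacter G)} (hB : IsPBlock M B) {D : Subgroup G} (hD : IsDefectGroup p M B D)
    (Q : Subgroup G) (hQ : IsPGroup p Q) (hQN : Q ≤ Subgroup.normalizer (D : Set G))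
    (hn : ∀ x ∈ Subgroup.normalizer (D : Set G), ∀ y ∈ Q, x * y * x⁻¹ ∈ Q) : Q ≤ D := by
  have h1 := S0955.result p M hM B hB D hD
  have h2 : (Q.subgroupOf (Subgroup.normalizer (D : Set G))).Normal := by
    refine ⟨fun y hy x => ?_⟩
    rw [Subgroup.mem_subgroupOf] at hy ⊢
    exact hn x x.2 y hy
  have h3 : Q.subgroupOf (Subgroup.normalizer (D : Set G)) ≤
      pCore p (Subgroup.normalizer (D : Set G)) :=
    Cfsg.Agent.Lib.Cores.le_pCore h2 hQ.comap_subtype
  rw [← h1]
  have h4 := Subgroup.map_mono (f := (Subgroup.normalizer (D : Set G)).subtype) h3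
  rwa [Subgroup.subgroupOf_map_subtype, inf_eq_left.2 hQN] at h4

theorem cover_spin (hn : 5 ≤ n) (hp2 : p ≠ 2) {H : Type u} [Group H] [Finite H]
    {π : H →* alternatingGroup (Fin n)} {z : H} (h : IsCover π z)
    (hM : IsPModular p M) {B : Set (IrrCharacter H)} (hB : IsPBlock M B) {D : Subgroup H}
    (hD : IsDefectGroup p M B D) (hz : ∀ ψ ∈ B, (ψ : H → ℂ) z ≠ (ψ : H → ℂ) 1)
    {χ : IrrCharacter H} (hχ : χ ∈ B) :
    blockHeight p B (χ : H → ℂ) ≤ ((Subgroup.center D).index).factorization p ∧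
      (blockHeight p B (χ : H → ℂ) = ((Subgroup.center D).index).factorization p ↔
        IsMulCommutative D) := by
  classical
  have : Nontrivial (Fin n) := Fin.nontrivial_iff_two_le.2 (by omega)
  have hMp : M.IsPrime := hM.2.1.isPrime
  let f : H →* Equiv.Perm (Fin n) := (alternatingGroup (Fin n)).subtype.comp π
  have hf : ∀ x, f x = (π x : Equiv.Perm (Fin n)) := fun _ => rfl
  have hker : ∀ x, f x = 1 ↔ x = 1 ∨ x = z := by
    intro x
    rw [hf, OneMemClass.coe_eq_one, h.ker]
  have hkc : f.ker ≤ Subgroup.center H := by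
    intro x hx
    rcases (hker x).1 hx with rfl | rfl
    · exact one_mem _
    · exact h.mem_center
  have hkcard : Nat.card f.ker = 2 := by
    have h1 : (f.ker : Set H) = {1, z} := by
      ext x; exact hker x
    have h2 : Nat.card f.ker = (f.ker : Set H).ncard := rfl
    rw [h2, h1, Set.ncard_pair h.z_ne.symm]
  have hkp : ¬ p ∣ Nat.card f.ker := by
    rw [hkcard]
    intro h1
    exact hp2 ((Nat.prime_dvd_prime_iff_eq hp.out Nat.prime_two).1 h1)
  have hpodd : Odd p := hp.out.odd_of_ne_two hp2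
  have hcardH : Nat.card H = n.factorial := by
    have h1 : π.ker = f.ker := by
      ext x
      rw [MonoidHom.mem_ker, MonoidHom.mem_ker, hf, OneMemClass.coe_eq_one]
    have h2 := Subgroup.card_mul_index π.ker
    rw [Subgroup.index_ker, MonoidHom.range_eq_top.2 h.surj, Nat.card_congr Subgroup.topEquiv.toEquiv,
      h1, hkcard] at h2
    have h3 := two_mul_card_alternatingGroup (α := Fin n)
    rw [Fintype.card_perm, Fintype.card_fin] at h3
    rw [← h2, ← h3, Nat.card_eq_fintype_card]
  have hDp : IsPGroup p D := Blocks.Basic.isPGroup_of_isDefectGroup hD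
  obtain ⟨g, hgreg, hDg, hne⟩ := exists_defect_elt hM hB hD
  obtain ⟨u, huD, hDu, ⟨w, hw⟩, hsup, hdis⟩ := exists_full (p := p) f hkc hkp hDp
    (fun Q hQ _ hQN hn' => radical hM hB hD Q hQ hQN hn') (by
      rintro σ ⟨k, hk⟩
      have h1 : (Equiv.Perm.sign σ) ^ (p ^ k) = 1 := by
        rw [← map_pow, ← hk, pow_orderOf_eq_one, map_one]
      have h2 : Equiv.Perm.sign σ = 1 := by
        rcases Int.units_eq_one_or (Equiv.Perm.sign σ) with h | h
        · exact h
        · rw [h, (hpodd.pow : Odd (p ^ k)).neg_one_pow] at h1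
          exact absurd h1 (by decide)
      obtain ⟨x, hx⟩ := h.surj ⟨σ, Equiv.Perm.mem_alternatingGroup.2 h2⟩
      exact ⟨x, by rw [hf, hx]⟩)
  have hcs : #(f u).support = p * w := by
    rw [← Equiv.Perm.sum_cycleType, hw, Multiset.sum_replicate, smul_eq_mul, mul_comm]
  have hS : ∀ y ∈ D, #(f y).support ≤ p * w := fun y hy => by
    rw [← hcs]; exact Finset.card_le_card (hsup y hy)
  rcases Nat.lt_or_ge w 2 with hw2 | hw2
  · let _ : Fintype H := Fintype.ofFinite H
    have hd := S0908.result p M hM B hB D hD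
    have hd1 := card_le_of_supp f hkp hd (S := (f u).support) (by
      rw [hcs]
      calc p * w ≤ p * 1 := Nat.mul_le_mul_left _ (by omega)
        _ = p := mul_one p) hsup
    exact concl_of_comm (isMulCommutative_of_card hd (by omega))
      (height_zero_of_card hM hB hD hd (by omega) hχ)
  refine concl_of_w hp2 f hkp hM hB hD (w := w) ?_ hS hχ
  intro ψ hψ
  obtain ⟨T, iT, fT, P, zT, b, e, hsp, hPe, hez⟩ := exists_spinData hn h
  obtain ⟨τ, hτs, hτc, hτsup⟩ := exists_odd_swap hw2 hw
  obtain ⟨t, ht⟩ := hsp.surj τ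
  have hψ' : IsIrrCharacter ((alternatingGroup (Fin n)).comap P : Subgroup T)
      ((ψ : H → ℂ) ∘ e.symm.toMonoidHom) := isIrr_comp e.symm.toMonoidHom e.symm.surjective ψ.2
  have hval : ∀ x, ((ψ : H → ℂ) ∘ e.symm.toMonoidHom) (e x) = (ψ : H → ℂ) x := by
    intro x
    show (ψ : H → ℂ) (e.symm (e x)) = _
    rw [e.symm_apply_apply]
  obtain ⟨L, hL, hLs, j, k, hlab⟩ := exists_label (by omega) hsp ⟨_, hψ'⟩ (by
    intro x hx
    have h1 : x = e z := Subtype.ext (by rw [hx, hez])
    show ((ψ : H → ℂ) ∘ e.symm.toMonoidHom) x ≠ ((ψ : H → ℂ) ∘ e.symm.toMonoidHom) 1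
    rw [h1, hval, ← map_one e, hval]
    exact hz ψ hψ) t (by
    rw [ht, Equiv.Perm.mem_alternatingGroup, hτs]
    decide)
  -- `t` commutes with the lifts of `g` and `u`
  have htg : t * (e g : T) = (e g : T) * t := by
    refine comm_of_disjoint hsp.surj hsp.z_comm hsp.ker ?_ (e g).2
    rw [Equiv.Perm.disjoint_iff_disjoint_support, ht, hPe]
    exact Finset.disjoint_of_subset_left hτsup
      (Equiv.Perm.disjoint_iff_disjoint_support.1 (hdis g hgreg hDg))
  have hzT : zT * zT = 1 := by
    rw [← hez, ← Subgroup.coe_mul, ← map_mul, h.z_mul, map_one, Subgroup.coe_one]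
  have htu : t * (e u : T) = (e u : T) * t := by
    have h1 : P (t * (e u : T) * t⁻¹ * (e u : T)⁻¹) = 1 := by
      rw [map_mul, map_mul, map_mul, map_inv, map_inv, ht, hPe]
      have h2 : τ * (π u : Equiv.Perm (Fin n)) = (π u : Equiv.Perm (Fin n)) * τ := hτc
      rw [h2]; group
    obtain ⟨m, hm⟩ := hDp ⟨u, huD⟩
    have hm' : (e u : T) ^ (p ^ m) = 1 := by
      have h2 : u ^ (p ^ m) = 1 := Subtype.ext_iff.1 hm
      rw [← Subgroup.coe_pow, ← map_pow, h2, map_one, Subgroup.coe_one]
    rcases (hsp.ker _).1 h1 with h2 | h2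
    · rw [mul_inv_eq_one, mul_inv_eq_iff_eq_mul] at h2
      exact h2
    · exfalso
      rw [mul_inv_eq_iff_eq_mul] at h2
      have h3 : (t * (e u : T) * t⁻¹) ^ (p ^ m) = 1 := by
        rw [conj_pow, hm', mul_one, mul_inv_cancel]
      have hc : Commute zT (e u : T) := (hsp.z_comm _).symm
      rw [h2, hc.mul_pow, hm', mul_one] at h3
      obtain ⟨c, hc'⟩ := (hpodd.pow : Odd (p ^ m))
      rw [hc', pow_succ, pow_mul, pow_two, hzT, one_pow, one_mul] at h3
      exact hsp.z_ne h3
  have hconj : ((e (u * g) : ((alternatingGroup (Fin n)).comap P : Subgroup T)) : T) =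
      t * (e (u * g) : T) * t⁻¹ := by
    rw [map_mul, Subgroup.coe_mul, ← mul_assoc, htu, mul_assoc (e u : T) t, htg, ← mul_assoc,
      mul_inv_cancel_right]
  have h1 := hlab (e (u * g)) (e (u * g)) hconj
  have hne' : (ψ : H → ℂ) (u * g) ≠ 0 := hne u huD hDu ψ hψ
  have h2 : (b (e (u * g) : T)) * (X (ty (P (e (u * g) : T))) L : ℂ) ≠ 0 := by
    intro h3
    rw [h3, mul_zero] at h1
    have h4 : (2 : ℂ) ^ j * ((ψ : H → ℂ) (u * g) + (ψ : H → ℂ) (u * g)) = 0 := by
      rw [← hval (u * g)]; exact h1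
    rw [← two_mul, mul_eq_zero, mul_eq_zero] at h4
    rcases h4 with h4 | h4 | h4
    · exact absurd h4 (pow_ne_zero _ two_ne_zero)
    · exact two_ne_zero h4
    · exact hne' h4
  have hodd : ∀ i ∈ ty (P (e (u * g) : T)), Odd i := by
    by_contra h3
    exact h2 (by rw [hsp.van _ h3, zero_mul])
  have hwt : (w : ℤ) ≤ wt p L := by
    by_contra hlt
    push Not at hlt
    apply h2
    rw [X_eq_zero_of_wt hpodd hodd]
    · simp
    · have h3 : P (e (u * g) : T) = f u * f g := by rw [hPe, ← map_mul]; rfl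
      have h4 : p * w ≤ ((ty (P (e (u * g) : T))).filter (p ∣ ·)).sum := by
        rw [h3, ty_eq, (hdis g hgreg hDg).cycleType_mul, hw, Multiset.filter_add, Multiset.filter_add,
          Multiset.sum_add, Multiset.sum_add, Multiset.filter_eq_self.2 (fun a ha => by
            rw [Multiset.eq_of_mem_replicate ha]), Multiset.sum_replicate, smul_eq_mul]
        have := Nat.mul_comm w p
        omega
      have h5 : (p : ℤ) * wt p L < ((p * w : ℕ) : ℤ) := by
        have : (0 : ℤ) < p := by exact_mod_cast hp.out.pos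
        rw [Nat.cast_mul]
        exact mul_lt_mul_of_pos_left hlt this
      exact lt_of_lt_of_le h5 (Int.ofNat_le.2 h4)
  -- the degree
  obtain ⟨hdpos, hdeg⟩ := charDegree_pos ψ.2
  obtain ⟨k', hk'⟩ := hsp.one_pos
  have h3 := hlab 1 1 (by simp)
  have h4 : (2 : ℂ) ^ j * ((ψ : H → ℂ) 1 + (ψ : H → ℂ) 1) =
      2 ^ k * (b 1 * (X (ty (P 1)) L : ℂ)) := by
    rw [← hval 1, map_one]; exact h3
  rw [map_one, ty_one, Fintype.card_fin, hk', hdeg] at h4
  have h5 : (2 : ℤ) ^ (j + 1) * (charDegree (ψ : H → ℂ) : ℤ) =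
      2 ^ (k + k') * X (Multiset.replicate n 1) L := by
    have h6 : ((2 ^ (j + 1) * (charDegree (ψ : H → ℂ) : ℤ) : ℤ) : ℂ) =
        ((2 ^ (k + k') * X (Multiset.replicate n 1) L : ℤ) : ℂ) := by
      push_cast
      rw [pow_succ, pow_add]
      linear_combination h4
    exact_mod_cast h6
  have h6 : 2 ^ (j + 1) * charDegree (ψ : H → ℂ) =
      2 ^ (k + k') * (X (Multiset.replicate n 1) L).natAbs := by
    have h7 := congrArg Int.natAbs h5
    rw [Int.natAbs_mul, Int.natAbs_mul, Int.natAbs_pow, Int.natAbs_pow, Int.natAbs_natCast] at h7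
    exact h7
  have hXpos := X_ones_pos n hL hLs
  have h2p : ∀ a : ℕ, (2 ^ a : ℕ).factorization p = 0 := by
    intro a
    rw [Nat.factorization_pow, Finsupp.smul_apply, Nat.Prime.factorization Nat.prime_two,
      Finsupp.single_eq_of_ne (by omega), smul_zero]
  have h7 : (charDegree (ψ : H → ℂ)).factorization p =
      (X (Multiset.replicate n 1) L).natAbs.factorization p := by
    have h8 := congrArg (fun x : ℕ => x.factorization p) h6
    beta_reduce at h8
    rw [Nat.factorization_mul (by positivity) hdpos.ne', Nat.factorization_mul (by positivity)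
      (by omega), Finsupp.add_apply, Finsupp.add_apply, h2p, h2p, zero_add, zero_add] at h8
    exact h8
  have h8 := val_X_ones hp2 n hL hLs
  rw [h7, hcardH]
  omega

/-- **The double covers of the alternating groups.** -/
theorem cover_concl (hn : 5 ≤ n) {H : Type u} [Group H] [Finite H]
    {π : H →* alternatingGroup (Fin n)} {z : H} (h : IsCover π z) (q : ℕ) (hq : q.Prime) :
    Cfsg.Agent.H107.AltBlk.Concl q H := by
  intro M hM B hB D hD χ hχ
  have : Fact q.Prime := ⟨hq⟩
  by_cases h2 : q = 2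
  · subst h2
    exact Cfsg.Agent.H852.Spin.cover_two hn h M hM B hB D hD χ hχ
  by_cases hz : ∃ ψ ∈ B, (ψ : H → ℂ) z = (ψ : H → ℂ) 1
  · obtain ⟨ψ, hψ, hz⟩ := hz
    obtain ⟨w, h3, h4⟩ := cover_nonspin h2 h hM hB hD hψ hz
    let f : H →* Equiv.Perm (Fin n) := (alternatingGroup (Fin n)).subtype.comp π
    have hkcard : Nat.card f.ker = 2 := by
      have h1 : (f.ker : Set H) = {1, z} := by
        ext x
        show ((π x : alternatingGroup (Fin n)) : Equiv.Perm (Fin n)) = 1 ↔ x = 1 ∨ x = z
        rw [OneMemClass.coe_eq_one, h.ker]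
      have h2 : Nat.card f.ker = (f.ker : Set H).ncard := rfl
      rw [h2, h1, Set.ncard_pair h.z_ne.symm]
    have hkp : ¬ q ∣ Nat.card f.ker := by
      rw [hkcard]
      intro h1
      exact h2 ((Nat.prime_dvd_prime_iff_eq hq Nat.prime_two).1 h1)
    exact concl_of_w h2 f hkp hM hB hD (w := w) h3 h4 hχ
  · push Not at hz
    exact cover_spin hn h2 h hM hB hD hz hχ

/-- **The alternating groups.** -/
theorem alt_concl (hn : 5 ≤ n) (q : ℕ) (hq : q.Prime) :
    Cfsg.Agent.H107.AltBlk.Concl q (alternatingGroup (Fin n)) := by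
  intro M hM B hB D hD χ hχ
  have : Fact q.Prime := ⟨hq⟩
  by_cases h2 : q = 2
  · subst h2
    exact Cfsg.Agent.H837.AltTwo.alt_two hn M hM B hB D hD χ hχ
  obtain ⟨w, h3, h4⟩ := alt_odd h2 hM hB hD
  have hkp : ¬ q ∣ Nat.card (alternatingGroup (Fin n)).subtype.ker := by
    rw [(MonoidHom.ker_eq_bot_iff _).2 (alternatingGroup (Fin n)).subtype_injective, Subgroup.card_bot,
      Nat.dvd_one]
    exact hq.one_lt.ne'
  exact concl_of_w h2 (alternatingGroup (Fin n)).subtype hkp hM hB hD (w := w) h3 h4 hχ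

/-- **S4578** -/
theorem main {H : Type u} [Group H] [Finite H] (hq : IsQuasisimple H) (hn : 5 ≤ n)
    (e : H ⧸ Subgroup.center H ≃* alternatingGroup (Fin n)) :
    Cfsg.Agent.H107.AltBlk.Concl p H :=
  Cfsg.Agent.H107.AltBlk.concl_of hq n hn e p (fun q hq => alt_concl hn q hq)
    (fun h q hq => cover_concl hn h q hq)

end Spin

end Cfsg.Agent.H614.Spin
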